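import Groth.Prelude.Def_KoszTw
import Groth.Agent.DCohLib.StalkTensor
import Groth.Agent.KoszShLib.SectionRes

/-!
# Germs generating modules of rank one and their products
-/

set_option autoImplicit false
set_option backward.isDefEq.respectTransparency false
set_option linter.style.haveILetI false

universe u

open CategoryTheory AlgebraicGeometry TopologicalSpace Opposite
open Groth.Agent.DCohLib Groth.Agent.PullbackMod Groth.Agent.KoszShLib
open scoped TensorProduct

noncomputable section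

namespace Groth.Agent.KoszTwLib

variable {X : Scheme.{u}}

/-- The germ freely generates the stalk. -/
def IsGen (M : X.Modules) (x : X) (g : M.presheaf.stalk x) : Prop :=
  Function.Bijective fun r : X.presheaf.stalk x => r • g

theorem isGen_one (x : X) :
    IsGen (Coh.structureModule X) x
      ((Coh.structureModule X).presheaf.germ ⊤ x trivial (KoszTw.tprod (Coh.structureModule X) 0 ⊤ finZeroElim)) :=
  ParaFLib.bijective_oneG x

/-- Multiplying by a generator is bijective. -/
theorem germMul_bijective {M N : X.Modules} {x : X} {h : N.presheaf.stalk x} (hh : IsGen N x h) :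
    Function.Bijective fun m : M.presheaf.stalk x => germMul x m h := by
  let e : X.presheaf.stalk x ≃ₗ[X.presheaf.stalk x] N.presheaf.stalk x :=
    LinearEquiv.ofBijective (LinearMap.toSpanSingleton _ _ h) hh
  let T := (TensorProduct.rid (X.presheaf.stalk x) (M.presheaf.stalk x)).symm ≪≫ₗ
    LinearEquiv.lTensor (M.presheaf.stalk x) e ≪≫ₗ stalkTensor x M N
  have hT : (fun m : M.presheaf.stalk x => germMul x m h) = T := by
    funext m
    show _ = stalkTensor x M N (LinearEquiv.lTensor (M.presheaf.stalk x) e (m ⊗ₜ 1))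
    rw [LinearEquiv.lTensor_tmul]
    show _ = stalkTensorHom x (m ⊗ₜ ((1 : X.presheaf.stalk x) • h))
    rw [one_smul]
    rfl
  rw [hT]
  exact T.bijective

theorem isGen_germMul {M N : X.Modules} {x : X} {g : M.presheaf.stalk x} {h : N.presheaf.stalk x}
    (hg : IsGen M x g) (hh : IsGen N x h) : IsGen (tmod M N) x (germMul x g h) := by
  have e : (fun r : X.presheaf.stalk x => r • germMul x g h) =
      (fun m => germMul x m h) ∘ fun r => r • g := funext fun r => (germMul_smul x r g h).1.symm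
  show Function.Bijective _
  rw [e]
  exact (germMul_bijective hh).comp hg

theorem germ_tmul {M N : X.Modules} {U : X.Opens} {x : X} (hx : x ∈ U) (m : Γ(M, U)) (n : Γ(N, U)) :
    (tmod M N).presheaf.germ U x hx (SecTwist.tmul M N U m n) =
      germMul x (M.presheaf.germ U x hx m) (N.presheaf.germ U x hx n) :=
  (germMul_germ x hx m n).symm

/-- The powers of a generator generate. -/
theorem isGen_tprod {L : X.Modules} {U : X.Opens} {x : X} (hx : x ∈ U) {e : Γ(L, U)}
    (he : IsGen L x (L.presheaf.germ U x hx e)) :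
    ∀ q : ℕ, IsGen (CohB1.tensorPow L q) x
      ((CohB1.tensorPow L q).presheaf.germ U x hx (KoszTw.tprod L q U fun _ => e))
  | 0 => by
    have h : (Coh.structureModule X).presheaf.germ U x hx (KoszTw.tprod L 0 U fun _ => e) =
        (Coh.structureModule X).presheaf.germ ⊤ x trivial
          (KoszTw.tprod (Coh.structureModule X) 0 ⊤ finZeroElim) := by
      rw [← TopCat.Presheaf.germ_res_apply (Coh.structureModule X).presheaf (homOfLE (le_top : U ≤ ⊤)) x hx]
      exact congrArg _ (PresheafOfModules.unit_map_one _ _).symm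
    exact (congrArg (IsGen (Coh.structureModule X) x) h).mpr (isGen_one x)
  | q + 1 => by
    refine (congrArg (IsGen (tmod (CohB1.tensorPow L q) L) x) (germ_tmul hx _ e)).mpr ?_
    exact isGen_germMul (isGen_tprod hx he q) he

theorem isGen_res {L : X.Modules} {U V : X.Opens} (h : V ≤ U) {e : Γ(L, U)} {x : X} (hx : x ∈ V)
    (he : IsGen L x (L.presheaf.germ U x (h hx) e)) :
    IsGen L x (L.presheaf.germ V x hx (L.presheaf.map (homOfLE h).op e)) := by
  rwa [TopCat.Presheaf.germ_res_apply]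

/-- A basis of a line bundle on an affine open generates all stalks there. -/
theorem isGen_of_basis {L : X.Modules} [L.IsQuasicoherent] (U : X.affineOpens)
    (b : Module.Basis (Fin 1) Γ(X, U.1) Γ(L, U.1)) (x : X) (hx : x ∈ U.1) :
    IsGen L x (L.presheaf.germ U.1 x hx (b 0)) := by
  have key : ∀ (W : X.Opens) (hW : x ∈ W), ∃ (V : X.Opens) (hVW : V ≤ W) (hVU : V ≤ U.1), x ∈ V ∧
      ∃ b' : Module.Basis (Fin 1) Γ(X, V) Γ(L, V), b' 0 = L.presheaf.map (homOfLE hVU).op (b 0) := by
    intro W hW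
    obtain ⟨g, hg, hxg⟩ := U.2.exists_basicOpen_le (V := W) ⟨x, hW⟩ hx
    obtain ⟨b', hb'⟩ := exists_basis_basicOpen L U b g
    exact ⟨X.basicOpen g, hg, X.basicOpen_le g, hxg, b', hb' 0⟩
  constructor
  · intro r r' e
    dsimp only at e
    have e0 : (r - r') • (L.presheaf.germ U.1 x hx (b 0) : L.presheaf.stalk x) = 0 := by
      rw [sub_smul, sub_eq_zero]; exact e
    refine sub_eq_zero.1 ?_
    obtain ⟨W, hW, a, ha⟩ := TopCat.Presheaf.exists_germ_eq X.presheaf (r - r')
    rw [← ha] at e0 ⊢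
    have hWU : x ∈ W ⊓ U.1 := ⟨hW, hx⟩
    let a' := X.presheaf.map (homOfLE (inf_le_left : W ⊓ U.1 ≤ W)).op a
    let e' := L.presheaf.map (homOfLE (inf_le_right : W ⊓ U.1 ≤ U.1)).op (b 0)
    have hz : L.presheaf.germ (W ⊓ U.1) x hWU (a' • e') = 0 := by
      refine (PresheafOfModules.germ_smul (R := X.presheaf) L.val x (W ⊓ U.1) hWU a' e').trans ?_
      refine Eq.trans ?_ e0
      exact congrArg₂ (· • ·) (TopCat.Presheaf.germ_res_apply _ _ _ _ a) (TopCat.Presheaf.germ_res_apply _ _ _ _ (b 0))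
    obtain ⟨W', hW', i, i', hW'eq⟩ := TopCat.Presheaf.germ_eq L.presheaf x hWU hWU _ 0 (hz.trans (map_zero _).symm)
    rw [map_zero, Scheme.Modules.map_smul] at hW'eq
    obtain ⟨V, hVW, hVU, hxV, b', hb'⟩ := key W' hW'
    have h1 := congrArg (L.presheaf.map (homOfLE hVW).op) hW'eq
    rw [map_zero, Scheme.Modules.map_smul] at h1
    have h2 : L.presheaf.map ((homOfLE (inf_le_right : W ⊓ U.1 ≤ U.1)).op ≫ i.op ≫ (homOfLE hVW).op) (b 0) = b' 0 :=
      hb'.symm
    rw [show L.presheaf.map (homOfLE hVW).op (L.presheaf.map i.op e') =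
        L.presheaf.map ((homOfLE (inf_le_right : W ⊓ U.1 ≤ U.1)).op ≫ i.op ≫ (homOfLE hVW).op) (b 0) by
      rw [L.presheaf.map_comp, L.presheaf.map_comp]; rfl] at h1
    rw [h2] at h1
    have h3 := congrArg (fun v => b'.repr v 0) h1
    simp only [map_smul, map_zero, Finsupp.smul_apply, Module.Basis.repr_self, Finsupp.single_eq_same, smul_eq_mul,
      mul_one, Finsupp.coe_zero, Pi.zero_apply] at h3
    have h4 := congrArg (X.presheaf.germ V x hxV) h3
    rw [map_zero] at h4
    refine Eq.trans ?_ h4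
    show _ = X.presheaf.germ V x hxV (X.presheaf.map (homOfLE hVW).op (X.presheaf.map i.op a'))
    rw [TopCat.Presheaf.germ_res_apply, TopCat.Presheaf.germ_res_apply, TopCat.Presheaf.germ_res_apply]
  · intro z
    obtain ⟨W, hW, t, rfl⟩ := TopCat.Presheaf.exists_germ_eq L.presheaf z
    obtain ⟨V, hVW, hVU, hxV, b', hb'⟩ := key W hW
    refine ⟨X.presheaf.germ V x hxV (b'.repr (L.presheaf.map (homOfLE hVW).op t) 0), ?_⟩
    show _ • L.presheaf.germ U.1 x hx (b 0) = L.presheaf.germ W x hW t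
    rw [← TopCat.Presheaf.germ_res_apply L.presheaf (homOfLE hVU) x hxV (b 0),
      ← TopCat.Presheaf.germ_res_apply L.presheaf (homOfLE hVW) x hxV t, ← hb']
    refine (PresheafOfModules.germ_smul (R := X.presheaf) L.val x V hxV _ _).symm.trans (congrArg _ ?_)
    conv_rhs => rw [← b'.sum_repr (L.presheaf.map (homOfLE hVW).op t)]
    rw [Fin.sum_univ_one]

/-- Near every point an affine open carries a basis of `F` and a section generating `L`. -/
theorem exists_frame {F L : X.Modules} (hF : FlatMod.IsFinLocFree F) (hL : PicF.IsInvertible L) (x : X) :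
    ∃ (V : X.affineOpens) (n : ℕ) (_ : Module.Basis (Fin n) Γ(X, V.1) Γ(F, V.1)) (e : Γ(L, V.1)),
      x ∈ V.1 ∧ ∀ (y : X) (hy : y ∈ V.1), IsGen L y (L.presheaf.germ V.1 y hy e) := by
  haveI := (isQCoh_and_isFP_of_isFinLocFree F hF).1
  have hL1 := CurveLib.isFinLocFreeOfRank_one hL
  haveI := (isQCoh_and_isFP_of_isFinLocFree L (KVb.isFinLocFree_of_rank hL1)).1
  obtain ⟨D₁, hD₁, hx₁, ⟨eL⟩⟩ := KVb.exists_free_sections (KVb.isFinLocFree_of_rank hL1) x
  rw [(KVb.isFinLocFreeOfRank_iff (KVb.isFinLocFree_of_rank hL1) 1).1 hL1 x] at eL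
  let U₁ : X.affineOpens := ⟨D₁, hD₁⟩
  let c : Module.Basis (Fin 1) Γ(X, U₁.1) Γ(L, U₁.1) := Module.Basis.ofEquivFun eL
  obtain ⟨D, hD, hxD, ⟨eF⟩⟩ := KVb.exists_free_sections hF x
  obtain ⟨g, hg, hxg⟩ := hD.exists_basicOpen_le (V := U₁.1) ⟨x, hx₁⟩ hxD
  obtain ⟨b', -⟩ := exists_basis_basicOpen F ⟨D, hD⟩ (Module.Basis.ofEquivFun eF) g
  exact ⟨⟨X.basicOpen g, hD.basicOpen g⟩, _, b', L.presheaf.map (homOfLE hg).op (c 0), hxg,
    fun y hy => isGen_res hg hy (isGen_of_basis U₁ c y (hg hy))⟩

end Groth.Agent.KoszTwLib
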