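import Groth.Agent.KoszTwLib.Gen

/-!
# Twisted Koszul differentials in a local frame
-/

set_option autoImplicit false
set_option backward.isDefEq.respectTransparency false
set_option linter.style.haveILetI false
set_option maxHeartbeats 800000

universe u

open CategoryTheory AlgebraicGeometry TopologicalSpace Opposite exteriorPower
open Groth.Agent.DCohLib Groth.Agent.PullbackMod Groth.Agent.KoszShLib

noncomputable section

namespace Groth.Agent.KoszTwLib

variable {X : Scheme.{u}} {F L : X.Modules} {W : X.Opens} (e : Γ(L, W))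
  (he : ∀ (y : X) (hy : y ∈ W), IsGen L y (L.presheaf.germ W y hy e))

/-- Tensoring a section with the frame. -/
def eta : Γ(F, W) →ₗ[Γ(X, W)] Γ(CohB1.tensorMod F L, W) where
  toFun f := pairS F L f e
  map_add' f f' := pairS_add_left f f' e
  map_smul' r f := pairS_smul_left r f e

include he in
theorem eta_injective : Function.Injective (eta (F := F) e) := by
  intro f f' h
  refine TopCat.Presheaf.section_ext (⟨F.presheaf, F.isSheaf⟩ : TopCat.Sheaf Ab X) W _ _ fun y hy => ?_
  refine (germMul_bijective (M := F) (he y hy)).1 ?_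
  show germMul y _ _ = germMul y _ _
  rw [germMul_germ, germMul_germ]
  exact congrArg _ h

include he in
theorem eta_bijective : Function.Bijective (eta (F := F) e) := by
  refine ⟨eta_injective e he, fun t => ?_⟩
  have hloc : ∀ y : W, ∃ (V : X.Opens) (hVW : V ≤ W), y.1 ∈ V ∧ ∃ f : Γ(F, V),
      pairS F L f (L.presheaf.map (homOfLE hVW).op e) = (tmod F L).presheaf.map (homOfLE hVW).op t := by
    rintro ⟨y, hy⟩
    obtain ⟨m, hm⟩ := (germMul_bijective (M := F) (he y hy)).2 ((tmod F L).presheaf.germ W y hy t)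
    obtain ⟨U, hU, f, rfl⟩ := TopCat.Presheaf.exists_germ_eq F.presheaf m
    have hUW : y ∈ U ⊓ W := ⟨hU, hy⟩
    have h1 : (tmod F L).presheaf.germ (U ⊓ W) y hUW
        (pairS F L (F.presheaf.map (homOfLE (inf_le_left : U ⊓ W ≤ U)).op f)
          (L.presheaf.map (homOfLE (inf_le_right : U ⊓ W ≤ W)).op e)) = (tmod F L).presheaf.germ W y hy t := by
      rw [← germMul_germ, TopCat.Presheaf.germ_res_apply, TopCat.Presheaf.germ_res_apply]
      exact hm
    obtain ⟨V, hV, i, i', hVeq⟩ := TopCat.Presheaf.germ_eq (tmod F L).presheaf y hUW hy _ _ h1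
    refine ⟨V, leOfHom i', hV, F.presheaf.map i.op (F.presheaf.map (homOfLE (inf_le_left : U ⊓ W ≤ U)).op f), ?_⟩
    rw [show i = homOfLE (leOfHom i) from Subsingleton.elim _ _, res_pairS] at hVeq
    refine Eq.trans ?_ hVeq
    refine congrArg (pairS F L _) ?_
    rw [← ConcreteCategory.comp_apply, ← L.presheaf.map_comp]
    rfl
  choose V hVW hyV f hf using hloc
  let Fs : TopCat.Sheaf Ab X := ⟨F.presheaf, F.isSheaf⟩
  have hcov : W ≤ iSup V := fun y hy => Opens.mem_iSup.2 ⟨⟨y, hy⟩, hyV ⟨y, hy⟩⟩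
  have hres : ∀ (y : W) (U' : X.Opens) (h1 : U' ≤ V y),
      pairS F L (F.presheaf.map (homOfLE h1).op (f y)) (L.presheaf.map (homOfLE (h1.trans (hVW y))).op e) =
        (tmod F L).presheaf.map (homOfLE (h1.trans (hVW y))).op t := by
    intro y U' h1
    have h := congrArg ((tmod F L).presheaf.map (homOfLE h1).op) (hf y)
    rw [res_pairS, ← ConcreteCategory.comp_apply, ← ConcreteCategory.comp_apply, ← L.presheaf.map_comp,
      ← (tmod F L).presheaf.map_comp] at h
    exact h
  have hcompat : TopCat.Presheaf.IsCompatible F.presheaf V f := by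
    intro y z
    refine TopCat.Presheaf.section_ext Fs _ _ _ fun w hw => ?_
    refine (germMul_bijective (M := F) (he w (hVW y hw.1))).1 ?_
    show germMul w _ _ = germMul w _ _
    rw [← TopCat.Presheaf.germ_res_apply L.presheaf (homOfLE ((inf_le_left : V y ⊓ V z ≤ V y).trans (hVW y))) w hw e]
    refine (germMul_germ w hw _ _).trans (Eq.trans ?_ (germMul_germ w hw _ _).symm)
    exact congrArg _ ((hres y _ inf_le_left).trans (hres z _ inf_le_right).symm)
  obtain ⟨g, hg, -⟩ := Fs.existsUnique_gluing' V W (fun y => homOfLE (hVW y)) hcov f hcompat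
  refine ⟨g, ?_⟩
  refine TopCat.Presheaf.section_ext (⟨(tmod F L).presheaf, (tmod F L).isSheaf⟩ : TopCat.Sheaf Ab X) W _ _ fun y hy => ?_
  refine (TopCat.Presheaf.germ_res_apply (tmod F L).presheaf (homOfLE (hVW ⟨y, hy⟩)) y (hyV ⟨y, hy⟩) _).symm.trans
    (Eq.trans ?_ (TopCat.Presheaf.germ_res_apply (tmod F L).presheaf (homOfLE (hVW ⟨y, hy⟩)) y (hyV ⟨y, hy⟩) t))
  refine congrArg _ (Eq.trans ?_ (hf ⟨y, hy⟩))
  show (tmod F L).presheaf.map (homOfLE (hVW ⟨y, hy⟩)).op (pairS F L g e) = _
  rw [res_pairS]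
  exact congrArg (fun v => pairS F L v _) (hg ⟨y, hy⟩)

/-- The unit section. -/
def oneS (W : X.Opens) : Γ(Coh.structureModule X, W) :=
  ((1 : X.ringCatSheaf.obj.obj (op W)) : (Coh.structureModule X).val.obj (op W))

theorem fnSect_smul (r : Γ(X, W)) :
    r • oneS W = (r : Γ(Coh.structureModule X, W)) :=
  mul_one r

variable (t : CohB1.tensorMod F L ⟶ Coh.structureModule X)

/-- The form of `F` read off the twisted one. -/
def phi : Γ(F, W) →ₗ[Γ(X, W)] Γ(X, W) := KoszSh.secForm t W ∘ₗ eta e

include he in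
theorem secForm_eq {s : F ⟶ Coh.structureModule X} {lam : Coh.structureModule X ⟶ L}
    (htri : KoszTw.TwistTriangle s lam t) {a : Γ(X, W)} (ha : SecTwist.val lam W = a • e) (f : Γ(F, W)) :
    KoszSh.secForm s W f = a * phi e t f := by
  have h := htri W f e
  let r : Γ(X, W) := phi e t f
  have h1 : t.app W (SecTwist.tmul F L W f e) = r • oneS W :=
    (fnSect_smul r).symm
  rw [h1, Scheme.Modules.Hom.app_smul] at h
  change r • SecTwist.val lam W = _ at h
  rw [ha, smul_smul] at h
  have hinj : ∀ u v : Γ(X, W), u • e = v • e → u = v := by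
    intro u v huv
    refine TopCat.Presheaf.section_ext X.sheaf W _ _ fun y hy => (he y hy).1 ?_
    have := congrArg (L.presheaf.germ W y hy) huv
    exact ((PresheafOfModules.germ_smul (R := X.presheaf) L.val y W hy u e).symm.trans this).trans
      (PresheafOfModules.germ_smul (R := X.presheaf) L.val y W hy v e)
  exact (hinj _ _ h).symm.trans (mul_comm _ _)

include he in
/-- A monomorphism multiplies the frame by a non-zero-divisor. -/
theorem coeff_regular {lam : Coh.structureModule X ⟶ L} [Mono lam] {a : Γ(X, W)}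
    (ha : SecTwist.val lam W = a • e) (r : Γ(X, W)) (hr : a * r = 0) : r = 0 := by
  have hinj : Function.Injective (lam.app W) := by
    intro u v huv
    refine TopCat.Presheaf.section_ext
      (⟨(Coh.structureModule X).presheaf, (Coh.structureModule X).isSheaf⟩ : TopCat.Sheaf Ab X) W _ _ fun y hy => ?_
    refine (mono_iff_stalk lam).1 inferInstance y ?_
    rw [stalkLin_germ, stalkLin_germ, huv]
  have h : lam.app W (r • oneS W) = lam.app W 0 := by
    rw [Scheme.Modules.Hom.app_smul, map_zero]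
    show r • SecTwist.val lam W = 0
    rw [ha, smul_smul, mul_comm, hr, zero_smul]
  exact (fnSect_smul r).symm.trans (hinj h)

section Kosz

variable (hW : IsAffineOpen W) {s : F ⟶ Coh.structureModule X} (C : KoszSh.Cx F s)
  (D : KoszSh.Cx (CohB1.tensorMod F L) t)

/-- Tensoring a Koszul term with powers of the frame. -/
def psi (p : ℕ) : Γ(C.K.X p, W) →ₗ[Γ(X, W)] Γ(D.K.X p, W) :=
  (D.loc p ⟨W, hW⟩).symm.toLinearMap ∘ₗ exteriorPower.map p (eta e) ∘ₗ (C.loc p ⟨W, hW⟩).toLinearMap

include he in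
theorem psi_bijective (p : ℕ) : Function.Bijective (psi e t hW C D p) := by
  let η : Γ(F, W) ≃ₗ[Γ(X, W)] Γ(CohB1.tensorMod F L, W) := LinearEquiv.ofBijective (eta e) (eta_bijective e he)
  have h2 : Function.Bijective (exteriorPower.map p (eta (F := F) e)) := by
    refine Function.bijective_iff_has_inverse.2 ⟨exteriorPower.map p η.symm.toLinearMap, fun z => ?_, fun z => ?_⟩
    · rw [← LinearMap.comp_apply, ← exteriorPower.map_comp,
        show η.symm.toLinearMap ∘ₗ eta e = LinearMap.id from LinearMap.ext η.symm_apply_apply, exteriorPower.map_id]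
      rfl
    · rw [← LinearMap.comp_apply, ← exteriorPower.map_comp,
        show eta e ∘ₗ η.symm.toLinearMap = LinearMap.id from LinearMap.ext η.apply_symm_apply, exteriorPower.map_id]
      rfl
  show Function.Bijective ((D.loc p ⟨W, hW⟩).symm ∘ exteriorPower.map p (eta e) ∘ (C.loc p ⟨W, hW⟩))
  exact (LinearEquiv.bijective _).comp (h2.comp (LinearEquiv.bijective _))

/-- The differential of the twisted form. -/
def del (q : ℕ) : Γ(C.K.X (q + 1), W) →ₗ[Γ(X, W)] Γ(C.K.X q, W) :=
  (C.loc q ⟨W, hW⟩).symm.toLinearMap ∘ₗ kd (phi e t) q ∘ₗ (C.loc (q + 1) ⟨W, hW⟩).toLinearMap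

theorem loc_induction {p : ℕ} {motive : Γ(C.K.X p, W) → Prop}
    (hι : ∀ f, motive ((C.loc p ⟨W, hW⟩).symm (ιMulti _ p f))) (h0 : motive 0)
    (hadd : ∀ a b, motive a → motive b → motive (a + b)) (hsmul : ∀ (r : Γ(X, W)) a, motive a → motive (r • a))
    (u : Γ(C.K.X p, W)) : motive u := by
  obtain ⟨z, rfl⟩ := (C.loc p ⟨W, hW⟩).symm.surjective u
  induction z using extPow_induction p with
  | hι f => exact hι f
  | h0 => rw [map_zero]; exact h0
  | hadd a b ha hb => rw [map_add]; exact hadd _ _ ha hb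
  | hsmul r a ha => rw [map_smul]; exact hsmul r _ ha

include he in
theorem dC_eq {lam : Coh.structureModule X ⟶ L} (htri : KoszTw.TwistTriangle s lam t) {a : Γ(X, W)}
    (ha : SecTwist.val lam W = a • e) (q : ℕ) (u : Γ(C.K.X (q + 1), W)) :
    (C.K.d (q + 1) q).app W u = a • del e t hW C q u := by
  induction u using loc_induction hW C with
  | hι f =>
    refine (C.rule q ⟨W, hW⟩ f).trans ?_
    show _ = a • (C.loc q ⟨W, hW⟩).symm (kd (phi e t) q (C.loc (q + 1) ⟨W, hW⟩ _))
    rw [LinearEquiv.apply_symm_apply, kd_ιMulti, ← map_smul]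
    refine congrArg _ ?_
    rw [KoszSh.dGen, KoszSh.dGen, Finset.smul_sum]
    refine Finset.sum_congr rfl fun i _ => ?_
    rw [smul_smul, secForm_eq e he t htri ha]
    congr 1
    ring
  | h0 => rw [map_zero, map_zero, smul_zero]
  | hadd u v hu hv => rw [map_add, hu, hv, map_add, smul_add]
  | hsmul r u hu => rw [Scheme.Modules.Hom.app_smul, hu, map_smul, smul_comm]

theorem dD_psi (q : ℕ) (u : Γ(C.K.X (q + 1), W)) :
    (D.K.d (q + 1) q).app W (psi e t hW C D (q + 1) u) = psi e t hW C D q (del e t hW C q u) := by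
  induction u using loc_induction hW C with
  | hι f =>
    show (D.K.d (q + 1) q).app W ((D.loc (q + 1) ⟨W, hW⟩).symm
      (exteriorPower.map (q + 1) (eta e) (C.loc (q + 1) ⟨W, hW⟩ _))) = (D.loc q ⟨W, hW⟩).symm
        (exteriorPower.map q (eta e) (C.loc q ⟨W, hW⟩ ((C.loc q ⟨W, hW⟩).symm
          (kd (phi e t) q (C.loc (q + 1) ⟨W, hW⟩ _)))))
    rw [LinearEquiv.apply_symm_apply, LinearEquiv.apply_symm_apply, exteriorPower.map_apply_ιMulti, kd_ιMulti]
    refine (D.rule q ⟨W, hW⟩ _).trans (congrArg _ ?_)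
    rw [KoszSh.dGen, KoszSh.dGen, map_sum]
    refine Finset.sum_congr rfl fun i _ => ?_
    rw [map_smul, exteriorPower.map_apply_ιMulti]
    rfl
  | h0 => simp only [map_zero]
  | hadd u v hu hv => simp only [map_add, hu, hv]
  | hsmul r u hu => simp only [map_smul, Scheme.Modules.Hom.app_smul, hu]

theorem theta_psi {q : ℕ} (θ : KoszTw.CxDecData C D q) (u : Γ(C.K.X q, W)) :
    θ.iso.hom.app W (psi e t hW C D q u) =
      SecTwist.tmul (C.K.X q) (CohB1.tensorPow L q) W u (KoszTw.tprod L q W fun _ => e) := by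
  induction u using loc_induction hW C with
  | hι f =>
    show θ.iso.hom.app W ((D.loc q ⟨W, hW⟩).symm
      (exteriorPower.map q (eta e) (C.loc q ⟨W, hW⟩ _))) = _
    rw [LinearEquiv.apply_symm_apply, exteriorPower.map_apply_ιMulti]
    exact θ.rule ⟨W, hW⟩ f fun _ => e
  | h0 =>
    rw [map_zero, map_zero]
    show _ = pairS _ _ 0 _
    exact (by simpa using (pairS_smul_left (0 : Γ(X, W)) (0 : Γ(C.K.X q, W))
      (KoszTw.tprod L q W fun _ => e)).symm)
  | hadd u v hu hv =>
    rw [map_add, map_add, hu, hv]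
    exact (pairS_add_left u v _).symm
  | hsmul r u hu =>
    rw [map_smul, Scheme.Modules.Hom.app_smul, hu]
    exact (pairS_smul_left r u _).symm

end Kosz

end Groth.Agent.KoszTwLib
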