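import Groth.Agent.KoszTwLib.Frame

/-!
# Twisted Koszul differentials: kernels and images
-/

set_option autoImplicit false
set_option backward.isDefEq.respectTransparency false
set_option linter.style.haveILetI false
set_option maxHeartbeats 800000

universe u

open CategoryTheory CategoryTheory.Limits AlgebraicGeometry TopologicalSpace Opposite exteriorPower
open Groth.Agent.DCohLib Groth.Agent.PullbackMod Groth.Agent.KoszShLib

noncomputable section

namespace Groth.Agent.KoszTwLib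

variable {X : Scheme.{u}} {F L : X.Modules}

/-- An affine open with a basis of `F` and a frame of `L` in which `lam` is a multiple of the frame. -/
structure Chart (F : X.Modules) (lam : Coh.structureModule X ⟶ L) where
  W : X.Opens
  affine : IsAffineOpen W
  n : ℕ
  b : Module.Basis (Fin n) Γ(X, W) Γ(F, W)
  e : Γ(L, W)
  gen : ∀ (y : X) (hy : y ∈ W), IsGen L y (L.presheaf.germ W y hy e)
  a : Γ(X, W)
  eq : SecTwist.val lam W = a • e

variable {lam : Coh.structureModule X ⟶ L}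

theorem res_val (lam : Coh.structureModule X ⟶ L) {U V : X.Opens} (h : V ≤ U) :
    L.presheaf.map (homOfLE h).op (SecTwist.val lam U) = SecTwist.val lam V :=
  SecTwist.map_val lam (homOfLE h)

theorem res_res_mod (M : X.Modules) {U V W : X.Opens} (a : V ⟶ U) (b : W ⟶ V) (m : Γ(M, U)) :
    M.presheaf.map b.op (M.presheaf.map a.op m) = M.presheaf.map (homOfLE (leOfHom (b ≫ a))).op m := by
  rw [← ConcreteCategory.comp_apply, ← M.presheaf.map_comp]
  rfl

theorem res_res_fun {U V W : X.Opens} (a : V ⟶ U) (b : W ⟶ V) (m : Γ(X, U)) :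
    X.presheaf.map b.op (X.presheaf.map a.op m) = X.presheaf.map (homOfLE (leOfHom (b ≫ a))).op m := by
  rw [← ConcreteCategory.comp_apply, ← X.presheaf.map_comp]
  rfl

theorem pairS_zero_left {M N : X.Modules} {U : X.Opens} (n : Γ(N, U)) : pairS M N (0 : Γ(M, U)) n = 0 := by
  have h := pairS_smul_left (M := M) (0 : Γ(X, U)) 0 n
  rwa [zero_smul, zero_smul] at h

theorem Chart.exists_le [F.IsQuasicoherent] (c : Chart F lam) {U : X.Opens} {x : X} (hxW : x ∈ c.W) (hxU : x ∈ U) :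
    ∃ (c' : Chart F lam) (hle : c'.W ≤ c.W), c'.W ≤ U ∧ x ∈ c'.W ∧
      c'.e = L.presheaf.map (homOfLE hle).op c.e := by
  obtain ⟨g, hg, hxg⟩ := c.affine.exists_basicOpen_le (V := U) ⟨x, hxU⟩ hxW
  have hle := X.basicOpen_le g
  obtain ⟨b', -⟩ := exists_basis_basicOpen F ⟨c.W, c.affine⟩ c.b g
  refine ⟨⟨X.basicOpen g, c.affine.basicOpen g, c.n, b', L.presheaf.map (homOfLE hle).op c.e,
    fun y hy => isGen_res hle hy (c.gen y (hle hy)), X.presheaf.map (homOfLE hle).op c.a, ?_⟩, hle, hg, hxg, rfl⟩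
  rw [← Scheme.Modules.map_smul, ← c.eq]
  exact (SecTwist.map_val lam (homOfLE hle)).symm

theorem exists_chart (hF : FlatMod.IsFinLocFree F) (hL : PicF.IsInvertible L) (x : X)
    (lam : Coh.structureModule X ⟶ L) : ∃ c : Chart F lam, x ∈ c.W := by
  haveI := (isQCoh_and_isFP_of_isFinLocFree F hF).1
  obtain ⟨V, n, b, e, hx, hgen⟩ := exists_frame hF hL x
  obtain ⟨r, hr⟩ := (hgen x hx).2 (L.presheaf.germ V.1 x hx (SecTwist.val lam V.1))
  obtain ⟨U, hU, a₀, rfl⟩ := TopCat.Presheaf.exists_germ_eq X.presheaf r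
  have hxUV : x ∈ U ⊓ V.1 := ⟨hU, hx⟩
  have h1 : L.presheaf.germ (U ⊓ V.1) x hxUV
      (X.presheaf.map (homOfLE (inf_le_left : U ⊓ V.1 ≤ U)).op a₀ •
        L.presheaf.map (homOfLE (inf_le_right : U ⊓ V.1 ≤ V.1)).op e) =
      L.presheaf.germ V.1 x hx (SecTwist.val lam V.1) := by
    refine (PresheafOfModules.germ_smul (R := X.presheaf) L.val x (U ⊓ V.1) hxUV _ _).trans ?_
    refine Eq.trans ?_ hr
    exact congrArg₂ (· • ·) (TopCat.Presheaf.germ_res_apply _ _ _ _ a₀) (TopCat.Presheaf.germ_res_apply _ _ _ _ e)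
  obtain ⟨W', hW', i, i', hWeq⟩ := TopCat.Presheaf.germ_eq L.presheaf x hxUV hx _ _ h1
  obtain ⟨g, hg, hxg⟩ := V.2.exists_basicOpen_le (V := W') ⟨x, hW'⟩ hx
  have hle := X.basicOpen_le g
  obtain ⟨b', -⟩ := exists_basis_basicOpen F V b g
  refine ⟨⟨X.basicOpen g, V.2.basicOpen g, n, b', L.presheaf.map (homOfLE hle).op e,
    fun y hy => isGen_res hle hy (hgen y (hle hy)),
    X.presheaf.map (homOfLE (hg.trans ((leOfHom i).trans inf_le_left))).op a₀, ?_⟩, hxg⟩
  have h2 := congrArg (L.presheaf.map (homOfLE hg).op) hWeq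
  rw [show i' = homOfLE (leOfHom i') from Subsingleton.elim _ _] at h2
  have h3 : L.presheaf.map (homOfLE hg).op (L.presheaf.map (homOfLE (leOfHom i')).op (SecTwist.val lam V.1)) =
      SecTwist.val lam (X.basicOpen g) :=
    (congrArg _ (res_val lam _)).trans (res_val lam _)
  rw [h3] at h2
  refine h2.symm.trans ?_
  rw [Scheme.Modules.map_smul, Scheme.Modules.map_smul, res_res_fun, res_res_fun, res_res_mod, res_res_mod]

theorem eq_zero_of_pairS {M N : X.Modules} {U : X.Opens} {n : Γ(N, U)}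
    (hn : ∀ (y : X) (hy : y ∈ U), IsGen N y (N.presheaf.germ U y hy n)) {m : Γ(M, U)}
    (h : pairS M N m n = 0) : m = 0 := by
  refine TopCat.Presheaf.section_ext (⟨M.presheaf, M.isSheaf⟩ : TopCat.Sheaf Ab X) U _ _ fun y hy => ?_
  refine (germMul_bijective (M := M) (hn y hy)).1 ?_
  refine (germMul_germ y hy _ _).trans (Eq.trans ?_ (germMul_germ y hy _ _).symm)
  exact congrArg _ (h.trans (pairS_zero_left _).symm)

theorem le_imageSubobject {A B T : X.Modules} (f : A ⟶ T) (g : B ⟶ T) (h : f ≫ cokernel.π g = 0) :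
    imageSubobject f ≤ imageSubobject g := by
  refine imageSubobject_le f (kernel.lift (cokernel.π g) f h ≫ (Abelian.imageIsoImage g).hom ≫
    (imageSubobjectIso g).inv) ?_
  simp only [Category.assoc, imageSubobject_arrow', Abelian.imageIsoImage_hom_comp_image_ι, kernel.lift_ι]

variable {s : F ⟶ Coh.structureModule X} {t : CohB1.tensorMod F L ⟶ Coh.structureModule X}
  (htri : KoszTw.TwistTriangle s lam t) (C : KoszSh.Cx F s) (D : KoszSh.Cx (CohB1.tensorMod F L) t) (q : ℕ)

include htri in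
theorem app_pair_eq (θ : KoszTw.CxDecData C D q) (c : Chart F lam) (u : Γ(C.K.X (q + 1), c.W)) :
    (KoszTw.tensorMap (KoszTw.tensorMap (C.K.d (q + 1) q) (𝟙 (CohB1.tensorPow L q))) (𝟙 L)).app c.W
        (SecTwist.tmul (CohB1.tensorMod (C.K.X (q + 1)) (CohB1.tensorPow L q)) L c.W
          (SecTwist.tmul (C.K.X (q + 1)) (CohB1.tensorPow L q) c.W u (KoszTw.tprod L q c.W fun _ => c.e)) c.e) =
      ((SecTwist.unitorR (D.K.X (q + 1))).inv ≫ KoszTw.tensorMap (D.K.d (q + 1) q) lam ≫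
        KoszTw.tensorMap θ.iso.hom (𝟙 L)).app c.W (psi c.e t c.affine C D (q + 1) u) := by
  rw [KoszTw.tensorMap_tmul, KoszTw.tensorMap_tmul, dC_eq c.e c.gen t c.affine C htri c.eq]
  let w : Γ(D.K.X (q + 1), c.W) := psi c.e t c.affine C D (q + 1) u
  have h1 : (SecTwist.unitorR (D.K.X (q + 1))).inv.app c.W w =
      SecTwist.tmul (D.K.X (q + 1)) (Coh.structureModule X) c.W w (oneS c.W) := by
    have h := SecTwist.unitorR_tmul (D.K.X (q + 1)) c.W w (1 : X.ringCatSheaf.obj.obj (op c.W))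
    rw [one_smul] at h
    have h' := congrArg ((SecTwist.unitorR (D.K.X (q + 1))).inv.app c.W) h.symm
    refine h'.trans ?_
    show ((SecTwist.unitorR (D.K.X (q + 1))).hom ≫ (SecTwist.unitorR (D.K.X (q + 1))).inv).app c.W _ = _
    rw [Iso.hom_inv_id]
    rfl
  show _ = (KoszTw.tensorMap θ.iso.hom (𝟙 L)).app c.W ((KoszTw.tensorMap (D.K.d (q + 1) q) lam).app c.W
    ((SecTwist.unitorR (D.K.X (q + 1))).inv.app c.W w))
  rw [h1, KoszTw.tensorMap_tmul, KoszTw.tensorMap_tmul, dD_psi, theta_psi]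
  show pairS _ L (pairS (C.K.X q) _ (c.a • _) _) c.e = pairS _ L _ (SecTwist.val lam c.W)
  rw [c.eq, pairS_smul_left, pairS_smul_left, pairS_smul_right]
  rfl

include htri in
/-- The two twisted differentials have the same image. -/
theorem imageSubobject_eq (hF : FlatMod.IsFinLocFree F) (hL : PicF.IsInvertible L) (θ : KoszTw.CxDecData C D q) :
    imageSubobject (KoszTw.tensorMap (KoszTw.tensorMap (C.K.d (q + 1) q) (𝟙 (CohB1.tensorPow L q))) (𝟙 L)) =
      imageSubobject ((SecTwist.unitorR (D.K.X (q + 1))).inv ≫ KoszTw.tensorMap (D.K.d (q + 1) q) lam ≫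
        KoszTw.tensorMap θ.iso.hom (𝟙 L)) := by
  haveI := (isQCoh_and_isFP_of_isFinLocFree F hF).1
  have key := app_pair_eq htri C D q θ
  let A := KoszTw.tensorMap (KoszTw.tensorMap (C.K.d (q + 1) q) (𝟙 (CohB1.tensorPow L q))) (𝟙 L)
  let B := (SecTwist.unitorR (D.K.X (q + 1))).inv ≫ KoszTw.tensorMap (D.K.d (q + 1) q) lam ≫
    KoszTw.tensorMap θ.iso.hom (𝟙 L)
  refine le_antisymm (le_imageSubobject A B ?_) (le_imageSubobject B A ?_)
  · refine (eq_zero_iff_stalk _).2 fun x => LinearMap.ext fun z => ?_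
    obtain ⟨c₀, hx₀⟩ := exists_chart hF hL x lam
    obtain ⟨w, hw⟩ := (germMul_bijective (M := CohB1.tensorMod (C.K.X (q + 1)) (CohB1.tensorPow L q))
      (c₀.gen x hx₀)).2 z
    obtain ⟨m, hm⟩ := (germMul_bijective (M := C.K.X (q + 1)) (isGen_tprod hx₀ (c₀.gen x hx₀) q)).2 w
    obtain ⟨U, hU, u₀, rfl⟩ := TopCat.Presheaf.exists_germ_eq (C.K.X (q + 1)).presheaf m
    obtain ⟨c, hle, hcU, hx, hce⟩ := c₀.exists_le hx₀ hU
    dsimp only at hw hm
    rw [← hw, ← hm, ← TopCat.Presheaf.germ_res_apply (C.K.X (q + 1)).presheaf (homOfLE hcU) x hx u₀,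
      ← TopCat.Presheaf.germ_res_apply (CohB1.tensorPow L q).presheaf (homOfLE hle) x hx
        (KoszTw.tprod L q c₀.W fun _ => c₀.e),
      ← TopCat.Presheaf.germ_res_apply L.presheaf (homOfLE hle) x hx c₀.e]
    rw [show (CohB1.tensorPow L q).presheaf.map (homOfLE hle).op (KoszTw.tprod L q c₀.W fun _ => c₀.e) =
      KoszTw.tprod L q c.W fun _ => c.e from hce ▸ KoszTw.map_tprod L q (homOfLE hle) _, ← hce]
    erw [germMul_germ, germMul_germ]
    rw [LinearMap.zero_apply]
    refine (stalkLin_germ _ x hx _).trans ?_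
    show (cokernel B).presheaf.germ c.W x hx ((cokernel.π B).app c.W (A.app c.W _)) = 0
    erw [key c]
    show (cokernel B).presheaf.germ c.W x hx ((B ≫ cokernel.π B).app c.W _) = 0
    rw [cokernel.condition, Scheme.Modules.Hom.zero_app]
    exact map_zero _
  · refine (eq_zero_iff_stalk _).2 fun x => LinearMap.ext fun z => ?_
    obtain ⟨c₀, hx₀⟩ := exists_chart hF hL x lam
    obtain ⟨U, hU, w₀, rfl⟩ := TopCat.Presheaf.exists_germ_eq (D.K.X (q + 1)).presheaf z
    obtain ⟨c, -, hcU, hx, -⟩ := c₀.exists_le hx₀ hU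
    obtain ⟨u, hu⟩ := (psi_bijective c.e c.gen t c.affine C D (q + 1)).2
      ((D.K.X (q + 1)).presheaf.map (homOfLE hcU).op w₀)
    rw [← TopCat.Presheaf.germ_res_apply (D.K.X (q + 1)).presheaf (homOfLE hcU) x hx w₀, ← hu,
      LinearMap.zero_apply, stalkLin_germ]
    show (cokernel A).presheaf.germ c.W x hx ((cokernel.π A).app c.W (B.app c.W _)) = 0
    erw [← key c]
    show (cokernel A).presheaf.germ c.W x hx ((A ≫ cokernel.π A).app c.W _) = 0
    rw [cokernel.condition, Scheme.Modules.Hom.zero_app]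
    exact map_zero _

include htri in
/-- On a chart the two kernels agree. -/
theorem app_eq_zero_iff [Mono lam] (θ : KoszTw.CxDecData C D (q + 1)) (c : Chart F lam)
    (w : Γ(D.K.X (q + 1), c.W)) :
    (θ.iso.hom ≫ KoszTw.tensorMap (C.K.d (q + 1) q) (𝟙 (CohB1.tensorPow L (q + 1)))).app c.W w = 0 ↔
      (D.K.d (q + 1) q).app c.W w = 0 := by
  obtain ⟨u, rfl⟩ := (psi_bijective c.e c.gen t c.affine C D (q + 1)).2 w
  rw [dD_psi]
  have hG : (θ.iso.hom ≫ KoszTw.tensorMap (C.K.d (q + 1) q) (𝟙 (CohB1.tensorPow L (q + 1)))).app c.W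
      (psi c.e t c.affine C D (q + 1) u) =
      pairS (C.K.X q) (CohB1.tensorPow L (q + 1)) (c.a • del c.e t c.affine C q u)
        (KoszTw.tprod L (q + 1) c.W fun _ => c.e) := by
    show (KoszTw.tensorMap (C.K.d (q + 1) q) (𝟙 (CohB1.tensorPow L (q + 1)))).app c.W
      (θ.iso.hom.app c.W (psi c.e t c.affine C D (q + 1) u)) = _
    rw [theta_psi, KoszTw.tensorMap_tmul, dC_eq c.e c.gen t c.affine C htri c.eq]
    rfl
  rw [hG, map_eq_zero_iff _ (psi_bijective c.e c.gen t c.affine C D q).1]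
  constructor
  · intro h
    have h1 : c.a • del c.e t c.affine C q u = 0 :=
      eq_zero_of_pairS (M := C.K.X q) (N := CohB1.tensorPow L (q + 1))
        (fun y hy => isGen_tprod hy (c.gen y hy) (q + 1)) h
    haveI : Module.Free Γ(X, c.W) Γ(F, c.W) := Module.Free.of_basis c.b
    haveI : Module.Free Γ(X, c.W) Γ(C.K.X q, c.W) := Module.Free.of_equiv (C.loc q ⟨c.W, c.affine⟩).symm
    let β := Module.Free.chooseBasis Γ(X, c.W) Γ(C.K.X q, c.W)
    refine β.repr.injective (Finsupp.ext fun i => ?_)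
    have h2 := congrArg (fun v => β.repr v i) h1
    simp only [map_smul, map_zero, Finsupp.smul_apply, smul_eq_mul, Finsupp.coe_zero, Pi.zero_apply] at h2
    rw [map_zero]
    exact coeff_regular c.e c.gen c.eq _ h2
  · intro h
    rw [h, smul_zero]
    exact pairS_zero_left _

include htri in
/-- The two twisted differentials have the same kernel. -/
theorem kernelSubobject_eq [Mono lam] (hF : FlatMod.IsFinLocFree F) (hL : PicF.IsInvertible L)
    (θ : KoszTw.CxDecData C D (q + 1)) :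
    kernelSubobject (θ.iso.hom ≫ KoszTw.tensorMap (C.K.d (q + 1) q) (𝟙 (CohB1.tensorPow L (q + 1)))) =
      kernelSubobject (D.K.d (q + 1) q) := by
  haveI := (isQCoh_and_isFP_of_isFinLocFree F hF).1
  have key := app_eq_zero_iff htri C D q θ
  let G := θ.iso.hom ≫ KoszTw.tensorMap (C.K.d (q + 1) q) (𝟙 (CohB1.tensorPow L (q + 1)))
  have aux : ∀ {T T' : X.Modules} (f : D.K.X (q + 1) ⟶ T) (g : D.K.X (q + 1) ⟶ T'),
      (∀ (c : Chart F lam) (w : Γ(D.K.X (q + 1), c.W)), f.app c.W w = 0 → g.app c.W w = 0) →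
        kernelSubobject f ≤ kernelSubobject g := by
    intro T T' f g h
    refine le_kernelSubobject _ _ ((eq_zero_iff_stalk _).2 fun x => LinearMap.ext fun z => ?_)
    obtain ⟨U, hU, w₀, rfl⟩ := TopCat.Presheaf.exists_germ_eq _ z
    obtain ⟨c₀, hx₀⟩ := exists_chart hF hL x lam
    obtain ⟨c, -, hcU, hx, -⟩ := c₀.exists_le hx₀ hU
    rw [← TopCat.Presheaf.germ_res_apply ((kernelSubobject f : Subobject (D.K.X (q + 1))) : X.Modules).presheaf
      (homOfLE hcU) x hx w₀, LinearMap.zero_apply, stalkLin_germ]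
    show T'.presheaf.germ c.W x hx (g.app c.W ((kernelSubobject f).arrow.app c.W _)) = 0
    rw [h c _ ?_]
    · exact map_zero _
    · show ((kernelSubobject f).arrow ≫ f).app c.W _ = 0
      rw [kernelSubobject_arrow_comp, Scheme.Modules.Hom.zero_app]
      rfl
  exact le_antisymm (aux G _ fun c w => (key c w).1) (aux _ G fun c w => (key c w).2)

end Groth.Agent.KoszTwLib
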